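import Groth.Agent.MiscTwoH99.Quiet.Swap
import Groth.Prelude.Def_Frob
import Mathlib.AlgebraicGeometry.Morphisms.Etale

/-!
# Composition of quasi-etale morphisms
-/

set_option autoImplicit false

universe u

open CategoryTheory CategoryTheory.Limits AlgebraicGeometry

namespace Groth.Agent.MiscTwoH99.Quiet

variable (p : ℕ) [Fact p.Prime]

theorem tower_of_le {X Y : Scheme.{u}} (r : Y ⟶ X) (U : X.affineOpens) (hU' : IsAffineOpen (r ⁻¹ᵁ U.1)) {n : ℕ}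
    (hT : letI := (r.app U.1).hom.toAlgebra; Quiet.IsRootTower p n Γ(X, U.1) Γ(Y, r ⁻¹ᵁ U.1))
    (O : X.Opens) (hO : IsAffineOpen O) (hOU : O ≤ U.1) :
    IsAffineOpen (r ⁻¹ᵁ O) ∧
      (letI := (r.app O).hom.toAlgebra; Quiet.IsRootTower p n Γ(X, O) Γ(Y, r ⁻¹ᵁ O)) := by
  have H : IsPullback (𝟙 Y) r r (𝟙 X) := IsPullback.of_horiz_isIso ⟨by rw [Category.id_comp, Category.comp_id]⟩
  have hOU' : O ≤ (𝟙 X : X ⟶ X) ⁻¹ᵁ U.1 := hOU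
  have hW : r ⁻¹ᵁ O = (𝟙 Y : Y ⟶ Y) ⁻¹ᵁ (r ⁻¹ᵁ U.1) ⊓ r ⁻¹ᵁ O :=
    (inf_eq_right.2 fun y hy => hOU hy).symm
  have haff : IsAffineOpen (r ⁻¹ᵁ O) := by
    haveI : IsAffine _ := U.2
    haveI : IsAffine _ := hU'
    haveI : IsAffine _ := hO
    exact .of_isIso (Scheme.Hom.isPullback_resLE H hOU' le_rfl hW).isoPullback.hom
  have hpo := (isIso_pushoutSection_iff H hOU' le_rfl hW).mp
    (isIso_pushoutSection_of_isAffineOpen H hOU' le_rfl hW U.2 hO hU')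
  refine ⟨haff, ?_⟩
  have := Quiet5.isRootTower_baseChange p n _ _ _ _ hpo (by rw [← Scheme.Hom.app_eq_appLE]; exact hT)
  rw [← Scheme.Hom.app_eq_appLE] at this
  exact this

theorem isPthRoot_SpecMap {A B : CommRingCat.{u}} (φ : A ⟶ B) {n : ℕ}
    (hT : letI := φ.hom.toAlgebra; Quiet.IsRootTower p n A B) : Quiet.IsPthRoot p (Spec.map φ) := by
  intro x
  refine ⟨⟨⊤, isAffineOpen_top _⟩, trivial, isAffineOpen_top _, n, ?_⟩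
  have hsq : IsPushout φ (Scheme.ΓSpecIso A).inv (Scheme.ΓSpecIso B).inv (Spec.map φ).appTop :=
    IsPushout.of_vert_isIso ⟨Scheme.ΓSpecIso_inv_naturality φ⟩
  exact Quiet5.isRootTower_baseChange p n φ _ _ _ hsq hT

theorem isQuiet_comp {X Y Z : Scheme.{u}} (hX : ∀ U : X.Opens, ((p : ℕ) : Γ(X, U)) = 0)
    (f : Y ⟶ X) (g : Z ⟶ Y) (hf : Quiet.IsQuiet p f) (hg : Quiet.IsQuiet p g) :
    Quiet.IsQuiet p (g ≫ f) := by
  intro z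
  obtain ⟨V, Z', r₁, e₁, hzV, hr₁, he₁, h1⟩ := hg z
  obtain ⟨Uo, Y', r₂, e₂, hyU, hr₂, he₂, h2⟩ := hf (g z)
  obtain ⟨U₀, hyU₀, hU₁, n₂, hT₂⟩ := hr₂ (r₂ ⟨g z, hyU⟩)
  let A := Γ(Y', U₀.1)
  let B := Γ((Uo : Scheme.{u}), r₂ ⁻¹ᵁ U₀.1)
  let φ : A ⟶ B := r₂.app U₀.1
  let jY : Spec B ⟶ Y := hU₁.fromSpec ≫ Uo.ι
  have hjY : jY ≫ f = Spec.map φ ≫ U₀.2.fromSpec ≫ e₂ := by
    rw [← Category.assoc (Spec.map φ)]
    simp only [φ, Scheme.Hom.app_eq_appLE]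
    rw [IsAffineOpen.SpecMap_appLE_fromSpec r₂ U₀.2 hU₁ le_rfl, Category.assoc, Category.assoc, h2]
  have hy : g z ∈ jY.opensRange := by
    have h0 : (⟨g z, hyU⟩ : (Uo : Scheme.{u})) ∈ Set.range hU₁.fromSpec := by
      rw [hU₁.range_fromSpec]; exact hyU₀
    obtain ⟨b, hb⟩ := h0
    refine ⟨b, ?_⟩
    show (hU₁.fromSpec ≫ Uo.ι) b = g z
    rw [Scheme.Hom.comp_apply, hb]
    rfl
  have hgz : e₁ (r₁ ⟨z, hzV⟩) = g z := by
    rw [← Scheme.Hom.comp_apply, h1]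
    rfl
  obtain ⟨U, hwU, hU', n₁, hT₁⟩ := hr₁ (r₁ ⟨z, hzV⟩)
  obtain ⟨W, hW, hwW, hWle⟩ := exists_isAffineOpen_mem_and_subset (x := r₁ ⟨z, hzV⟩)
    (U := U.1 ⊓ e₁ ⁻¹ᵁ jY.opensRange) ⟨hwU, show e₁ (r₁ ⟨z, hzV⟩) ∈ jY.opensRange by rw [hgz]; exact hy⟩
  obtain ⟨hW', hTW⟩ := tower_of_le p r₁ U hU' hT₁ W hW fun a ha => (hWle ha).1
  let C := Γ(Z', W)
  let E := Γ((V : Scheme.{u}), r₁ ⁻¹ᵁ W)
  let ψ : C ⟶ E := r₁.app W
  have hrange : Set.range (hW.fromSpec ≫ e₁) ⊆ Set.range jY := by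
    rintro _ ⟨c, rfl⟩
    have hc : hW.fromSpec c ∈ W := by
      show hW.fromSpec c ∈ (W : Set Z')
      rw [← hW.range_fromSpec]
      exact ⟨c, rfl⟩
    rw [Scheme.Hom.comp_apply]
    exact (hWle hc).2
  let ν : Spec C ⟶ Spec B := IsOpenImmersion.lift jY (hW.fromSpec ≫ e₁) hrange
  have hν : ν ≫ jY = hW.fromSpec ≫ e₁ := IsOpenImmersion.lift_fac _ _ _
  haveI : Etale ν := by
    haveI : Etale (ν ≫ jY) := by rw [hν]; infer_instance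
    exact Etale.of_comp ν jY
  obtain ⟨γ, hγ⟩ : ∃ γ : B ⟶ C, Spec.map γ = ν := ⟨Spec.preimage ν, Spec.map_preimage ν⟩
  have hγe : γ.hom.Etale := (HasRingHomProperty.Spec_iff (P := @Etale)).mp (hγ ▸ inferInstance)
  have hA : ((p : ℕ) : A) = 0 := by
    rw [← map_natCast (e₂.appLE ⊤ U₀.1 le_top).hom p, hX ⊤, map_zero]
  obtain ⟨C₀, γ₀, j, hγ₀, hpo⟩ := descend p φ γ hA hT₂ hγe
  haveI : Etale (Spec.map γ₀) := (HasRingHomProperty.Spec_iff (P := @Etale)).mpr hγ₀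
  have hj := Quiet5.isRootTower_baseChange p n₂ φ γ₀ γ j hpo hT₂
  obtain ⟨N, hN⟩ : ∃ N, letI := (j ≫ ψ).hom.toAlgebra; Quiet.IsRootTower p N C₀ E := by
    letI := j.hom.toAlgebra
    letI := ψ.hom.toAlgebra
    letI := (j ≫ ψ).hom.toAlgebra
    haveI : IsScalarTower C₀ C E := IsScalarTower.of_algebraMap_eq fun _ => rfl
    exact isRootTower_comp p n₂ n₁ C₀ C E hj hTW
  let jZ : Spec E ⟶ Z := hW'.fromSpec ≫ V.ι
  let r : (jZ.opensRange : Scheme.{u}) ⟶ Spec C₀ := jZ.isoOpensRange.inv ≫ Spec.map (j ≫ ψ)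
  refine ⟨jZ.opensRange, Spec C₀, r, Spec.map γ₀ ≫ U₀.2.fromSpec ≫ e₂, ?_, ?_, inferInstance, ?_⟩
  · have h0 : (⟨z, hzV⟩ : (V : Scheme.{u})) ∈ Set.range hW'.fromSpec := by
      rw [hW'.range_fromSpec]; exact hwW
    obtain ⟨b, hb⟩ := h0
    refine ⟨b, ?_⟩
    show (hW'.fromSpec ≫ V.ι) b = z
    rw [Scheme.Hom.comp_apply, hb]
    rfl
  · exact Quiet5.isPthRoot_of_isPullback
      (IsPullback.of_horiz_isIso (fst := jZ.isoOpensRange.inv) (snd := r) (f := Spec.map (j ≫ ψ)) (g := 𝟙 _)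
        ⟨by simp [r]⟩) (isPthRoot_SpecMap p _ hN)
  · have e0 : Spec.map (j ≫ ψ) ≫ Spec.map γ₀ = Spec.map ψ ≫ ν ≫ Spec.map φ := by
      rw [Spec.map_comp, Category.assoc, ← Spec.map_comp γ₀, ← hpo.w, Spec.map_comp, hγ]
    have e1 : Spec.map ψ ≫ hW.fromSpec = hW'.fromSpec ≫ r₁ := by
      simp only [ψ, Scheme.Hom.app_eq_appLE]
      exact IsAffineOpen.SpecMap_appLE_fromSpec r₁ hW hW' le_rfl
    have e2 : jZ.opensRange.ι = jZ.isoOpensRange.inv ≫ jZ := by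
      rw [Iso.eq_inv_comp]
      exact Scheme.Hom.isoOpensRange_hom_ι jZ
    simp only [r, e2, Category.assoc]
    congr 1
    rw [reassoc_of% e0, ← hjY, reassoc_of% hν, reassoc_of% e1, reassoc_of% h1]
    simp [jZ]

end Groth.Agent.MiscTwoH99.Quiet
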