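import Groth.Agent.MiscTwoH99.Quiet.Comp
import Mathlib.RingTheory.RingHom.FaithfullyFlat
import Mathlib.RingTheory.RingHom.StandardSmooth
import Mathlib.RingTheory.Smooth.StandardSmoothOfFree
import Mathlib.AlgebraicGeometry.Morphisms.Flat

/-!
# Frobenius of smooth algebras over perfect fields extracts `p`-th roots
-/

set_option autoImplicit false
set_option linter.style.haveILetI false

universe u

open CategoryTheory CategoryTheory.Limits AlgebraicGeometry

namespace Groth.Agent.MiscTwoH99.Quiet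

open Polynomial in
theorem root_pow (p : ℕ) {R : Type u} [CommRing R] (r : R) :
    (AdjoinRoot.root (X ^ p - C r : R[X])) ^ p = AdjoinRoot.of _ r := by
  have := AdjoinRoot.eval₂_root (X ^ p - C r : R[X])
  rw [eval₂_sub, eval₂_pow, eval₂_X, eval₂_C] at this
  exact sub_eq_zero.1 this

/-- `B` is a root tower over `A`, of some length. -/
def HasTower (p : ℕ) {A B : CommRingCat.{u}} (f : A ⟶ B) : Prop :=
  ∃ n, letI := f.hom.toAlgebra; Quiet.IsRootTower p n A B

variable {p : ℕ}

theorem hasTower_of_bijective {A B : CommRingCat.{u}} (f : A ⟶ B) (h : Function.Bijective f.hom) :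
    HasTower p f := by
  letI := f.hom.toAlgebra
  exact ⟨0, ⟨(AlgEquiv.ofBijective (Algebra.ofId A B) h).symm⟩⟩

theorem hasTower_baseChange {A B A' B' : CommRingCat.{u}} {f : A ⟶ B} {g : A ⟶ A'} {g' : B ⟶ B'} {f' : A' ⟶ B'}
    (h : IsPushout f g g' f') (hf : HasTower p f) : HasTower p f' :=
  ⟨_, Quiet5.isRootTower_baseChange p _ f g g' f' h hf.choose_spec⟩

theorem hasTower_comp [Fact p.Prime] {A B C : CommRingCat.{u}} {f : A ⟶ B} {g : B ⟶ C}
    (hf : HasTower p f) (hg : HasTower p g) : HasTower p (f ≫ g) := by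
  obtain ⟨n, hn⟩ := hf
  obtain ⟨m, hm⟩ := hg
  letI := f.hom.toAlgebra
  letI := g.hom.toAlgebra
  letI := (f ≫ g).hom.toAlgebra
  haveI : IsScalarTower A B C := IsScalarTower.of_algebraMap_eq fun _ => rfl
  exact isRootTower_comp p n m A B C hn hm

theorem hasTower_root {A B : CommRingCat.{u}} (f : A ⟶ B) (a : A) (h : Quiet.RootRing p A a →+* B)
    (hb : Function.Bijective h) (hc : ∀ c, h (AdjoinRoot.of _ c) = f.hom c) : HasTower p f := by
  letI := f.hom.toAlgebra
  refine ⟨1, a, h.toAlgebra, ?_, ⟨?_⟩⟩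
  · letI := h.toAlgebra
    exact IsScalarTower.of_algebraMap_eq fun c => (hc c).symm
  · letI := h.toAlgebra
    exact (AlgEquiv.ofBijective (Algebra.ofId (Quiet.RootRing p A a) B) hb).symm

theorem flat_of_isRootTower (hp : p ≠ 0) : ∀ (n : ℕ) (A B : Type u) [CommRing A] [CommRing B] [Algebra A B],
    Quiet.IsRootTower p n A B → Module.Flat A B
  | 0, A, B, _, _, _, h => by
    obtain ⟨e⟩ := h
    exact Module.Flat.of_linearEquiv e.toLinearEquiv
  | n + 1, A, B, _, _, _, h => by
    obtain ⟨a, _, _, h⟩ := h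
    haveI : Module.Free A (Quiet.RootRing p A a) := (Polynomial.monic_X_pow_sub_C a hp).free_adjoinRoot
    haveI := flat_of_isRootTower hp n _ _ h
    exact Module.Flat.trans A (Quiet.RootRing p A a) B

theorem flat_of_hasTower (hp : p ≠ 0) {A B : CommRingCat.{u}} {f : A ⟶ B} (hf : HasTower p f) : f.hom.Flat := by
  obtain ⟨n, hn⟩ := hf
  letI := f.hom.toAlgebra
  exact flat_of_isRootTower hp n A B hn

theorem flat_of_isPthRoot (hp : p ≠ 0) {X Y : Scheme.{u}} (f : Y ⟶ X) (hf : Quiet.IsPthRoot p f) :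
    AlgebraicGeometry.Flat f := by
  refine (HasRingHomProperty.iff_exists_appLE (P := @AlgebraicGeometry.Flat) ?_).2 fun y => ?_
  · exact RingHom.Flat.stableUnderComposition.stableUnderCompositionWithLocalizationAway
      RingHom.Flat.holdsForLocalizationAway |>.left
  · obtain ⟨U, hyU, hU, h⟩ := hf (f y)
    refine ⟨U, ⟨_, hU⟩, hyU, le_rfl, ?_⟩
    rw [← Scheme.Hom.app_eq_appLE]
    exact flat_of_hasTower hp h

/-- Extractions of `p`-th roots can be checked on an open cover of the target. -/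
theorem isPthRoot_of_cover {X Y : Scheme.{u}} (r : Y ⟶ X)
    (h : ∀ x : X, ∃ (X' Y' : Scheme.{u}) (k : X' ⟶ X) (g : Y' ⟶ Y) (r' : Y' ⟶ X'),
      IsOpenImmersion k ∧ x ∈ Set.range k ∧ IsPullback g r' r k ∧ Quiet.IsPthRoot p r') :
    Quiet.IsPthRoot p r := by
  intro x
  obtain ⟨X', Y', k, g, r', hk, ⟨x', rfl⟩, H, hr'⟩ := h x
  haveI : IsOpenImmersion g := MorphismProperty.of_isPullback H.flip hk
  obtain ⟨U', hxU', hU'', n, hT⟩ := hr' x'
  have hU : IsAffineOpen (k ''ᵁ U'.1) := U'.2.image_of_isOpenImmersion k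
  have he : r ⁻¹ᵁ (k ''ᵁ U'.1) = g ''ᵁ (r' ⁻¹ᵁ U'.1) := by
    ext y
    constructor
    · rintro ⟨z, hz, hzy⟩
      obtain ⟨y', hy', hy''⟩ := Scheme.Pullback.exists_preimage_pullback (f := r) (g := k) y z hzy.symm
      obtain ⟨w, rfl⟩ := H.isoPullback.hom.surjective y'
      refine ⟨w, show r' w ∈ U'.1 from ?_, ?_⟩
      · rw [show r' w = z from by rw [← hy'', ← Scheme.Hom.comp_apply, H.isoPullback_hom_snd]]
        exact hz
      · rw [← hy', ← Scheme.Hom.comp_apply, H.isoPullback_hom_fst]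
        rfl
    · rintro ⟨w, hw, rfl⟩
      exact ⟨r' w, hw, (congr($(H.w) w)).symm⟩
  have hY : IsAffineOpen (r ⁻¹ᵁ (k ''ᵁ U'.1)) := by rw [he]; exact hU''.image_of_isOpenImmersion g
  have hle : U'.1 ≤ k ⁻¹ᵁ (k ''ᵁ U'.1) := (k.preimage_image_eq _).ge
  have hW : r' ⁻¹ᵁ U'.1 = g ⁻¹ᵁ (r ⁻¹ᵁ (k ''ᵁ U'.1)) ⊓ r' ⁻¹ᵁ U'.1 := by
    refine (inf_eq_right.2 fun w hw => ?_).symm
    show g w ∈ r ⁻¹ᵁ (k ''ᵁ U'.1)
    rw [he]
    exact ⟨w, hw, rfl⟩
  have hpo := (isIso_pushoutSection_iff H hle le_rfl hW).mp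
    (isIso_pushoutSection_of_isAffineOpen H hle le_rfl hW hU U'.2 hY)
  haveI : IsIso (k.appLE (k ''ᵁ U'.1) U'.1 hle) := by
    rw [← k.appIso_hom' U'.1]
    infer_instance
  haveI := hpo.isIso_inl_of_isIso
  refine ⟨⟨k ''ᵁ U'.1, hU⟩, ⟨x', hxU', rfl⟩, hY, n, ?_⟩
  rw [Scheme.Hom.app_eq_appLE] at hT
  have := Quiet5.isRootTower_baseChange p n (r'.appLE U'.1 (r' ⁻¹ᵁ U'.1) le_rfl)
    (inv (k.appLE (k ''ᵁ U'.1) U'.1 hle))
    (inv (g.appLE (r ⁻¹ᵁ (k ''ᵁ U'.1)) (r' ⁻¹ᵁ U'.1) (hW.trans_le inf_le_left)))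
    (r.appLE (k ''ᵁ U'.1) (r ⁻¹ᵁ (k ''ᵁ U'.1)) le_rfl)
    (IsPushout.of_vert_isIso ⟨by rw [IsIso.comp_inv_eq, Category.assoc, IsIso.eq_inv_comp]; exact hpo.w.symm⟩) hT
  rw [← Scheme.Hom.app_eq_appLE] at this
  exact this

section Poly

variable [hp : Fact p.Prime] {k : Type u} [Field k] {σ : Type} [Finite σ]

open MvPolynomial in
theorem hasTower_powH_mvPolynomial [CharP k p] [PerfectRing k p]
    (h0 : (p : MvPolynomial σ k) = 0) :
    HasTower p (CommRingCat.ofHom (powH p h0 1)) := by
  classical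
  cases nonempty_fintype σ
  let ψ (s : Finset σ) : MvPolynomial σ k →ₐ[k] MvPolynomial σ k :=
    aeval fun i => if i ∈ s then (X i : MvPolynomial σ k) ^ p else X i
  have hstep : ∀ j : σ, HasTower p
      (CommRingCat.ofHom (aeval (R := k) (Function.update (X : σ → MvPolynomial σ k) j (X j ^ p))).toRingHom) := by
    intro j
    let θ : MvPolynomial σ k →ₐ[k] MvPolynomial σ k := aeval (Function.update X j (X j ^ p))
    have hev : Polynomial.eval₂ θ.toRingHom (X j)
        (Polynomial.X ^ p - Polynomial.C (X j) : Polynomial (MvPolynomial σ k)) = 0 := by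
      simp [θ]
    let h : Quiet.RootRing p (MvPolynomial σ k) (X j) →ₐ[k] MvPolynomial σ k :=
      { AdjoinRoot.lift θ.toRingHom (X j) hev with
        commutes' := fun c => by
          show AdjoinRoot.lift θ.toRingHom (X j) hev (algebraMap k _ c) = _
          rw [IsScalarTower.algebraMap_apply k (MvPolynomial σ k) (Quiet.RootRing p (MvPolynomial σ k) (X j)),
            AdjoinRoot.algebraMap_eq, AdjoinRoot.lift_of]
          exact θ.commutes c }
    have hof : ∀ c, h (AdjoinRoot.of _ c) = θ c := fun c => AdjoinRoot.lift_of hev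
    have hroot : h (AdjoinRoot.root _) = X j := AdjoinRoot.lift_root hev
    let g : MvPolynomial σ k →ₐ[k] Quiet.RootRing p (MvPolynomial σ k) (X j) :=
      aeval (Function.update (fun i => AdjoinRoot.of _ (X i)) j (AdjoinRoot.root _))
    have hgh : ∀ z, g (h z) = z := by
      intro z
      refine DFunLike.congr_fun (f := g.comp h) (g := AlgHom.id k _) ?_ z
      refine AdjoinRoot.algHom_ext' ?_ ?_
      · refine MvPolynomial.algHom_ext fun i => ?_
        show g (h (AdjoinRoot.of _ (X i))) = AdjoinRoot.of _ (X i)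
        rw [hof]
        by_cases hij : i = j
        · subst hij
          simp [θ, g, root_pow]
        · simp [θ, g, hij]
      · show g (h (AdjoinRoot.root _)) = AdjoinRoot.root _
        rw [hroot]
        simp [g]
    have hhg : ∀ z, h (g z) = z := by
      intro z
      refine DFunLike.congr_fun (f := h.comp g) (g := AlgHom.id k _) ?_ z
      refine MvPolynomial.algHom_ext fun i => ?_
      show h (g (X i)) = X i
      by_cases hij : i = j
      · subst hij
        simp [g, hroot]
      · simp [g, hij, hof, θ]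
    exact hasTower_root (A := CommRingCat.of (MvPolynomial σ k)) (B := CommRingCat.of (MvPolynomial σ k))
      (CommRingCat.ofHom θ.toRingHom) (X j) h.toRingHom
      (Function.bijective_iff_has_inverse.2 ⟨g, hgh, hhg⟩) hof
  have hψ : ∀ s, HasTower p (CommRingCat.ofHom (ψ s).toRingHom) := by
    intro s
    induction s using Finset.induction_on with
    | empty =>
      refine hasTower_of_bijective _ ?_
      have : ψ ∅ = AlgHom.id k _ := MvPolynomial.algHom_ext fun i => by simp [ψ]
      rw [CommRingCat.hom_ofHom, this]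
      exact Function.bijective_id
    | @insert j s hj ih =>
      have h1 : ψ (insert j s) = (aeval (Function.update (X : σ → MvPolynomial σ k) j (X j ^ p))).comp (ψ s) := by
        refine MvPolynomial.algHom_ext fun i => ?_
        by_cases hij : i = j
        · subst hij
          simp [ψ, hj]
        · by_cases his : i ∈ s <;> simp [ψ, hij, his]
      rw [h1]
      exact hasTower_comp ih (hstep j)
  have hm : HasTower p (CommRingCat.ofHom (MvPolynomial.map (σ := σ) (frobenius k p))) :=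
    hasTower_of_bijective _ ⟨map_injective _ (bijective_frobenius k p).1, map_surjective _ (bijective_frobenius k p).2⟩
  have h1 : powH p h0 1 = (ψ Finset.univ).toRingHom.comp (MvPolynomial.map (frobenius k p)) := by
    refine MvPolynomial.ringHom_ext (fun c => ?_) fun i => ?_
    · simp [ψ, frobenius_def]
    · simp [ψ]
  rw [h1]
  exact hasTower_comp hm (hψ _)

/-- The Frobenius of a smooth algebra over a perfect field extracts `p`-th roots. -/
theorem isPthRoot_frobenius_of_smooth [CharP k p] [PerfectRing k p] (A : Type u) [CommRing A] [Algebra k A]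
    [Algebra.Smooth k A] (hA : (p : A) = 0) :
    Quiet.IsPthRoot p (Spec.map (CommRingCat.ofHom (powH p hA 1))) := by
  refine isPthRoot_of_cover _ fun (x : PrimeSpectrum A) => ?_
  obtain ⟨s, hs, hstd⟩ := Algebra.Smooth.exists_span_eq_top_isStandardSmooth k A
  obtain ⟨a, has, hax⟩ : ∃ a ∈ s, a ∉ x.asIdeal := by
    by_contra h
    push Not at h
    exact x.2.ne_top (top_le_iff.1 (hs.symm.trans_le (Ideal.span_le.2 h)))
  haveI := hstd a has
  have hS : (p : Localization.Away a) = 0 := cast_zero_of_hom p (algebraMap A _) hA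
  obtain ⟨d, γ, -, hγ⟩ := RingHom.IsStandardSmooth.exists_etale_mvPolynomial
    (RingHom.isStandardSmooth_algebraMap.2 ‹_› : (algebraMap k (Localization.Away a)).IsStandardSmooth)
  have h0 : (p : MvPolynomial (Fin d) k) = 0 :=
    cast_zero_of_hom p (algebraMap k _) (CharP.cast_eq_zero k p)
  have htow : HasTower p (CommRingCat.ofHom (powH p hS 1)) :=
    hasTower_baseChange (isPushout_pow_one p (CommRingCat.ofHom γ) h0 hS hγ) (hasTower_powH_mvPolynomial h0)
  let l : CommRingCat.of A ⟶ CommRingCat.of (Localization.Away a) := CommRingCat.ofHom (algebraMap A _)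
  haveI : IsOpenImmersion (Spec.map l) := IsOpenImmersion.of_isLocalization a
  have hr : Set.range (Spec.map l) = (PrimeSpectrum.basicOpen a : Set (PrimeSpectrum A)) :=
    PrimeSpectrum.localization_away_comap_range (Localization.Away a) a
  refine ⟨_, _, Spec.map l, Spec.map l, Spec.map (CommRingCat.ofHom (powH p hS 1)), inferInstance,
    hr.ge hax, (IsOpenImmersion.isPullback _ _ _ _ ?_ ?_).flip, isPthRoot_SpecMap p _ htow.choose_spec⟩
  · rw [← Spec.map_comp, ← Spec.map_comp]
    refine congrArg Spec.map (CommRingCat.hom_ext (RingHom.ext fun b => ?_))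
    simp [l, powH]
  · ext y
    show Spec.map (CommRingCat.ofHom (powH p hA 1)) y ∈ Set.range (Spec.map l) ↔ y ∈ Set.range (Spec.map l)
    rw [show Spec.map (CommRingCat.ofHom (powH p hA 1)) y = y from PrimeSpectrum.ext (Ideal.ext fun b => by
      show b ^ p ^ 1 ∈ (y : PrimeSpectrum A).asIdeal ↔ b ∈ (y : PrimeSpectrum A).asIdeal
      exact y.2.pow_mem_iff_mem _ (pow_pos hp.out.pos _))]

theorem faithfullyFlat_powH_of_smooth [CharP k p] [PerfectRing k p] (A : Type u) [CommRing A] [Algebra k A]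
    [Algebra.Smooth k A] (hA : (p : A) = 0) : (powH p hA 1).FaithfullyFlat := by
  refine RingHom.FaithfullyFlat.iff_flat_and_comap_surjective.2 ⟨?_, fun y => ⟨y, ?_⟩⟩
  · exact (HasRingHomProperty.Spec_iff (P := @AlgebraicGeometry.Flat)).1
      (flat_of_isPthRoot hp.out.ne_zero _ (isPthRoot_frobenius_of_smooth (k := k) A hA))
  · refine PrimeSpectrum.ext (Ideal.ext fun b => ?_)
    show b ^ p ^ 1 ∈ y.asIdeal ↔ _
    exact y.2.pow_mem_iff_mem _ (pow_pos hp.out.pos _)

end Poly

end Groth.Agent.MiscTwoH99.Quiet
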