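import Groth.Agent.Quiet5.BC
import Groth.Agent.S3176
import Mathlib.RingTheory.RingHom.Etale

/-!
# Etale algebras over root towers come from the base
-/

set_option autoImplicit false

universe u

open CategoryTheory CategoryTheory.Limits Polynomial TensorProduct

namespace Groth.Agent.MiscTwoH99.Quiet

variable (p : ℕ) [hp : Fact p.Prime]

/-- `x ↦ x ^ (p ^ m)` in characteristic `p`. -/
def powH {A : Type u} [CommRing A] (h : (p : A) = 0) (m : ℕ) : A →+* A where
  toFun x := x ^ p ^ m
  map_one' := one_pow _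
  map_mul' x y := mul_pow _ _ _
  map_zero' := zero_pow (pow_ne_zero _ hp.out.ne_zero)
  map_add' x y := by
    induction m with
    | zero => simp
    | succ m ih => rw [pow_succ, pow_mul, pow_mul, pow_mul, ih, PerfLib.frob_add h]

@[simp] theorem powH_apply {A : Type u} [CommRing A] (h : (p : A) = 0) (m : ℕ) (x : A) :
    powH p h m x = x ^ p ^ m := rfl

theorem cast_zero_of_hom {A B : Type u} [CommRing A] [CommRing B] (f : A →+* B) (h : (p : A) = 0) : (p : B) = 0 := by
  rw [← map_natCast f, h, map_zero]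

/-- A root tower is killed by a power of Frobenius. -/
theorem exists_sigma : ∀ (n : ℕ) (A B : Type u) [CommRing A] [CommRing B] [Algebra A B], (p : A) = 0 →
    Quiet.IsRootTower p n A B → ∃ (m : ℕ) (σ : B →+* A), (∀ a, σ (algebraMap A B a) = a ^ p ^ m) ∧
      ∀ b, algebraMap A B (σ b) = b ^ p ^ m
  | 0, A, B, _, _, _, _, hT => by
    obtain ⟨e⟩ := hT
    refine ⟨0, e.toRingEquiv.toRingHom, fun a => ?_, fun b => ?_⟩
    · simp
    · simpa using (e.symm.commutes (e b)).symm
  | n + 1, A, B, _, _, _, h0, hT => by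
    obtain ⟨a, _, htow, hn⟩ := hT
    have h1 : (p : Quiet.RootRing p A a) = 0 := cast_zero_of_hom p (AdjoinRoot.of _) h0
    obtain ⟨m, σ, hσ₁, hσ₂⟩ := exists_sigma n (Quiet.RootRing p A a) B h1 hn
    let τ : Quiet.RootRing p A a →+* A := AdjoinRoot.lift (powH p h0 1) a (by
      rw [eval₂_sub, eval₂_pow, eval₂_X, eval₂_C, powH_apply, pow_one, sub_self])
    have hτ₁ : ∀ c, τ (AdjoinRoot.of _ c) = c ^ p := fun c => by
      simp only [τ, AdjoinRoot.lift_of, powH_apply, pow_one]
    have hτ₂ : ∀ x, AdjoinRoot.of (X ^ p - C a : A[X]) (τ x) = x ^ p := by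
      have : (AdjoinRoot.of (X ^ p - C a : A[X])).comp τ = powH p h1 1 := by
        refine AdjoinRoot.ringHom_ext (RingHom.ext fun c => ?_) ?_
        · simp only [RingHom.comp_apply, powH_apply, pow_one, hτ₁, map_pow]
        · have := AdjoinRoot.eval₂_root (X ^ p - C a : A[X])
          rw [eval₂_sub, eval₂_pow, eval₂_X, eval₂_C] at this
          simp only [RingHom.comp_apply, τ, AdjoinRoot.lift_root, powH_apply, pow_one]
          exact (sub_eq_zero.1 this).symm
      intro x
      simpa using DFunLike.congr_fun this x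
    refine ⟨m + 1, τ.comp σ, fun c => ?_, fun b => ?_⟩
    · rw [RingHom.comp_apply, IsScalarTower.algebraMap_apply A (Quiet.RootRing p A a) B, hσ₁, map_pow]
      exact (congrArg (fun z => z ^ p ^ m) (hτ₁ c)).trans (by rw [← pow_mul, pow_succ'])
    · rw [RingHom.comp_apply, IsScalarTower.algebraMap_apply A (Quiet.RootRing p A a) B]
      exact (congrArg (algebraMap (Quiet.RootRing p A a) B) (hτ₂ (σ b))).trans
        (by rw [map_pow, hσ₂, ← pow_mul, pow_succ])

theorem isPushout_pow_one {B C : CommRingCat.{u}} (γ : B ⟶ C) (hB : (p : B) = 0) (hC : (p : C) = 0)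
    (hγ : γ.hom.Etale) :
    IsPushout (CommRingCat.ofHom (powH p hB 1)) γ γ (CommRingCat.ofHom (powH p hC 1)) := by
  have w : CommRingCat.ofHom (powH p hB 1) ≫ γ = γ ≫ CommRingCat.ofHom (powH p hC 1) := by
    ext b
    simp
  rcases subsingleton_or_nontrivial C with hsub | hnt
  · refine ⟨⟨w⟩, ⟨PushoutCocone.IsColimit.mk _ (fun s => s.inr) (fun s => ?_) (fun s => ?_) (fun s m _ _ => ?_)⟩⟩
    all_goals
      haveI : Subsingleton s.pt := subsingleton_of_zero_eq_one
        (by rw [← map_zero s.inr.hom, ← map_one s.inr.hom, Subsingleton.elim (0 : C) 1])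
      exact CommRingCat.hom_ext (RingHom.ext fun _ => Subsingleton.elim _ _)
  · haveI : Nontrivial B := γ.hom.domain_nontrivial
    haveI : CharP B p := (CharP.charP_iff_prime_eq_zero hp.out).2 hB
    haveI : CharP C p := (CharP.charP_iff_prime_eq_zero hp.out).2 hC
    letI := γ.hom.toAlgebra
    haveI : Algebra.Etale B C := hγ
    have hbij := (S3176.result p B C).mp inferInstance
    let e : CommRingCat.of (FrobAlg.BaseChange p B C) ≅ C :=
      (RingEquiv.ofBijective (FrobAlg.relFrob p B C) hbij).toCommRingCatIso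
    let t : CommRingCat.of (FrobAlg.Twist p B) ≅ B := (FrobAlg.toTwist p B).symm.toCommRingCatIso
    refine ((CommRingCat.isPushout_tensorProduct B C (FrobAlg.Twist p B)).of_iso (Iso.refl B) (Iso.refl C) t e
      ?_ ?_ ?_ ?_).flip
    · ext b; rfl
    · refine CommRingCat.hom_ext (RingHom.ext fun b => ?_)
      show (FrobAlg.toTwist p B).symm (algebraMap B (FrobAlg.Twist p B) b) = b ^ p ^ 1
      rw [FrobAlg.algebraMap_twist, RingEquiv.symm_apply_apply, pow_one]
    · refine CommRingCat.hom_ext (RingHom.ext fun c => ?_)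
      show FrobAlg.relFrob p B C (c ⊗ₜ[B] 1) = c ^ p ^ 1
      rw [PerfLib.relFrob_tmul, map_one, map_one, mul_one, pow_one]
    · refine CommRingCat.hom_ext (RingHom.ext fun b => ?_)
      show FrobAlg.relFrob p B C (1 ⊗ₜ[B] b) = γ.hom ((FrobAlg.toTwist p B).symm b)
      rw [PerfLib.relFrob_tmul, one_pow, one_mul]
      rfl

theorem isPushout_pow {B C : CommRingCat.{u}} (γ : B ⟶ C) (hB : (p : B) = 0) (hC : (p : C) = 0)
    (hγ : γ.hom.Etale) : ∀ m,
    IsPushout (CommRingCat.ofHom (powH p hB m)) γ γ (CommRingCat.ofHom (powH p hC m))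
  | 0 => by
    rw [show CommRingCat.ofHom (powH p hB 0) = 𝟙 B from
        CommRingCat.hom_ext (RingHom.ext fun x => show x ^ p ^ 0 = x by simp),
      show CommRingCat.ofHom (powH p hC 0) = 𝟙 C from
        CommRingCat.hom_ext (RingHom.ext fun x => show x ^ p ^ 0 = x by simp)]
    exact IsPushout.of_horiz_isIso ⟨(Category.id_comp γ).trans (Category.comp_id γ).symm⟩
  | m + 1 => by
    have h := (isPushout_pow γ hB hC hγ m).paste_horiz (isPushout_pow_one p γ hB hC hγ)
    rwa [show CommRingCat.ofHom (powH p hB m) ≫ CommRingCat.ofHom (powH p hB 1) = CommRingCat.ofHom (powH p hB (m + 1)) by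
        ext x; simp [← pow_mul, pow_succ],
      show CommRingCat.ofHom (powH p hC m) ≫ CommRingCat.ofHom (powH p hC 1) = CommRingCat.ofHom (powH p hC (m + 1)) by
        ext x; simp [← pow_mul, pow_succ]] at h

/-- An étale algebra over a root tower is the base change of an étale algebra over the bottom. -/
theorem descend {A B C : CommRingCat.{u}} (φ : A ⟶ B) (γ : B ⟶ C) (hA : (p : A) = 0) {n : ℕ}
    (hT : letI := φ.hom.toAlgebra; Quiet.IsRootTower p n A B) (hγ : γ.hom.Etale) :
    ∃ (C₀ : CommRingCat.{u}) (γ₀ : A ⟶ C₀) (j : C₀ ⟶ C), γ₀.hom.Etale ∧ IsPushout φ γ₀ γ j := by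
  have hB : (p : B) = 0 := cast_zero_of_hom p φ.hom hA
  have hC : (p : C) = 0 := cast_zero_of_hom p γ.hom hB
  letI := φ.hom.toAlgebra
  obtain ⟨m, σ, -, hσ⟩ := exists_sigma p n A B hA hT
  letI := γ.hom.toAlgebra
  letI : Algebra B A := σ.toAlgebra
  let σc : B ⟶ A := CommRingCat.ofHom σ
  have sq : IsPushout γ σc
      (CommRingCat.ofHom (Algebra.TensorProduct.includeLeftRingHom : C →+* C ⊗[B] A))
      (CommRingCat.ofHom (Algebra.TensorProduct.includeRight : A →ₐ[B] C ⊗[B] A).toRingHom) :=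
    CommRingCat.isPushout_tensorProduct B C A
  have hcomp : σc ≫ φ = CommRingCat.ofHom (powH p hB m) := by
    ext b
    exact hσ b
  have big := (isPushout_pow p γ hB hC hγ m).flip
  rw [← hcomp] at big
  have w : γ ≫ CommRingCat.ofHom (powH p hC m) = σc ≫ φ ≫ γ := by
    rw [big.w, Category.assoc]
  refine ⟨_, _, sq.desc (CommRingCat.ofHom (powH p hC m)) (φ ≫ γ) w, ?_,
    ((IsPushout.of_top (v₁₁ := σc) (v₂₁ := φ) ?_ ?_ sq).flip)⟩
  · haveI := (RingHom.isStableUnderCobaseChange_toMorphismProperty_iff (P := RingHom.Etale)).mpr RingHom.Etale.isStableUnderBaseChange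
    exact MorphismProperty.of_isPushout (P := RingHom.toMorphismProperty RingHom.Etale) sq.flip hγ
  · rw [sq.inl_desc]
    exact big
  · exact sq.inr_desc _ _ w

theorem isRootTower_comp : ∀ (n₁ n₂ : ℕ) (A B E : Type u) [CommRing A] [CommRing B] [CommRing E] [Algebra A B]
    [Algebra B E] [Algebra A E] [IsScalarTower A B E], Quiet.IsRootTower p n₁ A B → Quiet.IsRootTower p n₂ B E →
    ∃ n, Quiet.IsRootTower p n A E
  | 0, n₂, A, B, E, _, _, _, _, _, _, _, h₁, h₂ => by
    obtain ⟨e⟩ := h₁
    refine ⟨n₂, ?_⟩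
    have hsq : IsPushout (CommRingCat.ofHom (algebraMap B E)) (CommRingCat.ofHom (e : B →+* A)) (𝟙 (CommRingCat.of E))
        (CommRingCat.ofHom (algebraMap A E)) := by
      haveI : IsIso (CommRingCat.ofHom (e : B →+* A)) := e.toRingEquiv.toCommRingCatIso.isIso_hom
      refine IsPushout.of_vert_isIso ⟨CommRingCat.hom_ext (RingHom.ext fun b => ?_)⟩
      show algebraMap B E b = algebraMap A E (e b)
      rw [IsScalarTower.algebraMap_apply A B E, ← e.symm.commutes (e b)]
      simp
    have h3 := Quiet5.isRootTower_baseChange p n₂ _ _ _ _ hsq (by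
      rw [show (CommRingCat.ofHom (algebraMap B E)).hom.toAlgebra = ‹Algebra B E› from Algebra.algebra_ext _ _ fun _ => rfl]
      exact h₂)
    rwa [show (CommRingCat.ofHom (algebraMap A E)).hom.toAlgebra = ‹Algebra A E› from Algebra.algebra_ext _ _ fun _ => rfl] at h3
  | n + 1, n₂, A, B, E, _, _, _, _, _, _, _, h₁, h₂ => by
    obtain ⟨a, _, htow, hn⟩ := h₁
    letI : Algebra (Quiet.RootRing p A a) E := Algebra.compHom E (algebraMap (Quiet.RootRing p A a) B)
    haveI : IsScalarTower (Quiet.RootRing p A a) B E := IsScalarTower.of_algebraMap_eq fun _ => rfl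
    obtain ⟨N, hN⟩ := isRootTower_comp n n₂ (Quiet.RootRing p A a) B E hn h₂
    refine ⟨N + 1, a, inferInstance, IsScalarTower.of_algebraMap_eq fun x => ?_, hN⟩
    show algebraMap A E x = algebraMap B E (algebraMap (Quiet.RootRing p A a) B (algebraMap A _ x))
    rw [← IsScalarTower.algebraMap_apply A (Quiet.RootRing p A a) B, ← IsScalarTower.algebraMap_apply]

end Groth.Agent.MiscTwoH99.Quiet
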