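import Groth.Agent.MiscTwoH99.Quiet.Comp
import Groth.Agent.EtFound.LiftEtale

/-!
# Lifting quasi-etale morphisms along surjective closed immersions
-/

set_option autoImplicit false

universe u

open CategoryTheory CategoryTheory.Limits AlgebraicGeometry Polynomial

namespace Groth.Agent.MiscTwoH99.Quiet

variable (p : ℕ)

/-- A root tower over a quotient ring lifts to the ring. -/
theorem lift_tower : ∀ (n : ℕ) {A A' E : CommRingCat.{u}} (a : A ⟶ A') (ψ : A' ⟶ E),
    Function.Surjective a.hom → (letI := ψ.hom.toAlgebra; Quiet.IsRootTower p n A' E) →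
    ∃ (B : CommRingCat.{u}) (φ : A ⟶ B) (b : B ⟶ E),
      (letI := φ.hom.toAlgebra; Quiet.IsRootTower p n A B) ∧ IsPushout φ a b ψ
  | 0, A, A', E, a, ψ, _, hT => by
    letI := ψ.hom.toAlgebra
    obtain ⟨e⟩ := hT
    have hb : Function.Bijective ψ.hom := by
      have : ∀ x, ψ.hom x = e.symm x := fun x => (e.symm.commutes x).symm
      rw [show ⇑ψ.hom = ⇑e.symm from funext this]
      exact e.symm.bijective
    haveI : IsIso ψ := (ConcreteCategory.isIso_iff_bijective ψ).2 hb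
    refine ⟨A, 𝟙 A, a ≫ ψ, ?_, IsPushout.of_horiz_isIso ⟨Category.id_comp _⟩⟩
    letI := (𝟙 A : A ⟶ A).hom.toAlgebra
    exact ⟨AlgEquiv.ofRingEquiv (f := RingEquiv.refl A) fun _ => rfl⟩
  | n + 1, A, A', E, a, ψ, ha, hT => by
    letI := ψ.hom.toAlgebra
    obtain ⟨y, alg, htow, hn⟩ := hT
    obtain ⟨x, rfl⟩ := ha y
    let A1 := CommRingCat.of (Quiet.RootRing p A x)
    let A1' := CommRingCat.of (Quiet.RootRing p A' (a x))
    let i : A ⟶ A1 := CommRingCat.ofHom (AdjoinRoot.of _)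
    let i' : A' ⟶ A1' := CommRingCat.ofHom (AdjoinRoot.of _)
    have hroot : ∀ (R : Type u) [CommRing R] (r : R),
        (AdjoinRoot.root (X ^ p - C r : R[X])) ^ p = AdjoinRoot.of _ r := fun R _ r => by
      have := AdjoinRoot.eval₂_root (X ^ p - C r : R[X])
      rw [eval₂_sub, eval₂_pow, eval₂_X, eval₂_C] at this
      exact sub_eq_zero.1 this
    let a1 : A1 ⟶ A1' := CommRingCat.ofHom (AdjoinRoot.lift (a ≫ i').hom (AdjoinRoot.root _) (by
      rw [eval₂_sub, eval₂_pow, eval₂_X, eval₂_C]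
      exact sub_eq_zero.2 (hroot _ (a x))))
    have sq : IsPushout i a a1 i' := by
      refine ⟨⟨?_⟩, ⟨PushoutCocone.IsColimit.mk _ (fun s => CommRingCat.ofHom (AdjoinRoot.lift s.inr.hom
        (s.inl.hom (AdjoinRoot.root _)) ?_)) (fun s => ?_) (fun s => ?_) (fun s m hl hr => ?_)⟩⟩
      · refine CommRingCat.hom_ext (RingHom.ext fun c => ?_)
        simp [a1, i, i']
        exact AdjoinRoot.lift_of _
      · rw [eval₂_sub, eval₂_pow, eval₂_X, eval₂_C, ← map_pow, hroot]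
        exact sub_eq_zero.2 congr($(s.condition).hom x)
      · refine CommRingCat.hom_ext (AdjoinRoot.ringHom_ext (RingHom.ext fun c => ?_) ?_)
        · simp [a1]
          erw [AdjoinRoot.lift_of]
          exact congr($(s.condition).hom c).symm
        · simp [a1]
          erw [AdjoinRoot.lift_root]
      · refine CommRingCat.hom_ext (RingHom.ext fun c => ?_)
        simp [i']
        exact AdjoinRoot.lift_of _
      · refine CommRingCat.hom_ext (AdjoinRoot.ringHom_ext (RingHom.ext fun c => ?_) ?_)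
        · simp
          exact congr($(hr).hom c)
        · have h2 := congr($(hl).hom (AdjoinRoot.root _))
          simp [a1] at h2 ⊢
          erw [AdjoinRoot.lift_root] at h2
          exact h2
    have ha1 : Function.Surjective a1.hom := by
      intro z
      obtain ⟨q, rfl⟩ := AdjoinRoot.mk_surjective z
      obtain ⟨q, rfl⟩ := Polynomial.map_surjective a.hom ha q
      refine ⟨AdjoinRoot.mk _ q, ?_⟩
      simp only [a1, CommRingCat.hom_ofHom]
      erw [AdjoinRoot.lift_mk]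
      rw [← AdjoinRoot.aeval_eq, aeval_def, eval₂_map]
      rfl
    let j : A1' ⟶ E := CommRingCat.ofHom (algebraMap (Quiet.RootRing p A' (a x)) E)
    have hij : i' ≫ j = ψ := by
      ext c
      exact (IsScalarTower.algebraMap_apply A' (Quiet.RootRing p A' (a x)) E c).symm
    have hj : (letI := j.hom.toAlgebra; Quiet.IsRootTower p n A1' E) := by
      have e : alg = j.hom.toAlgebra := Algebra.algebra_ext _ _ fun _ => rfl
      rw [← e]
      exact hn
    obtain ⟨B, φ, b, hφ, hpo⟩ := lift_tower n a1 j ha1 hj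
    refine ⟨B, i ≫ φ, b, ?_, by rw [← hij]; exact sq.paste_horiz hpo⟩
    letI := (i ≫ φ).hom.toAlgebra
    refine ⟨x, φ.hom.toAlgebra, ?_, hφ⟩
    letI := φ.hom.toAlgebra
    exact IsScalarTower.of_algebraMap_eq fun _ => rfl

/-- Quasi-etale schemes over a closed subscheme with the same points lift, Zariski locally. -/
theorem exists_quiet_lift [Fact p.Prime] {T U U' : Scheme.{u}} (i : U ⟶ T) [IsClosedImmersion i]
    [Surjective i] (f' : U' ⟶ U) (hf' : Quiet.IsQuiet p f') (u : U') :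
    ∃ (V : U'.Opens) (T' : Scheme.{u}) (q : T' ⟶ T) (j : (V : Scheme.{u}) ⟶ T'),
      u ∈ V ∧ Quiet.IsQuiet p q ∧ IsPullback j (V.ι ≫ f') q i := by
  obtain ⟨Vu, Y', r, e, huV, hr, he, hre⟩ := hf' u
  obtain ⟨T₁, h, hh, ho, p₀, hp₀⟩ := EtFound.exists_etale_lift i e (r ⟨u, huV⟩)
  haveI : Etale T₁.hom := T₁.prop
  obtain ⟨U₀, hwU₀, hU₀', n, hT₀⟩ := hr (r ⟨u, huV⟩)
  -- shrink to an affine open of the etale lift
  let fst := pullback.fst T₁.hom i
  have hC : IsClosed (fst '' ((h ⁻¹ᵁ U₀.1 : (pullback T₁.hom i).Opens) : Set (pullback T₁.hom i).carrier)ᶜ) :=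
    fst.isClosedEmbedding.isClosedMap _ (h ⁻¹ᵁ U₀.1).isOpen.isClosed_compl
  obtain ⟨O, hO, hp₀O, hOC⟩ := exists_isAffineOpen_mem_and_subset (x := fst p₀) (U := ⟨_, hC.isOpen_compl⟩) (by
    rintro ⟨z, hz, hzp⟩
    obtain rfl := fst.isClosedEmbedding.injective hzp
    exact hz (by show h z ∈ U₀.1; rw [show h z = r ⟨u, huV⟩ from hp₀]; exact hwU₀))
  let P₀ := fst ⁻¹ᵁ O
  have hP₀ : IsAffineOpen P₀ := hO.preimage fst
  let W := h ''ᵁ P₀
  have hW : IsAffineOpen W := hP₀.image_of_isOpenImmersion h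
  have hWU : W ≤ U₀.1 := by
    rintro _ ⟨z, hz, rfl⟩
    by_contra hc
    exact hOC hz ⟨z, hc, rfl⟩
  obtain ⟨hW', hTW⟩ := tower_of_le p r U₀ hU₀' hT₀ W hW hWU
  let E := Γ((Vu : Scheme.{u}), r ⁻¹ᵁ W)
  let ε : Γ(Y', W) ⟶ Γ(pullback T₁.hom i, P₀) := (h.appIso P₀).hom
  let ψ : Γ(pullback T₁.hom i, P₀) ⟶ E := (h.appIso P₀).inv ≫ r.app W
  have hψ : letI := ψ.hom.toAlgebra; Quiet.IsRootTower p n Γ(pullback T₁.hom i, P₀) E :=
    Quiet5.isRootTower_baseChange p n (r.app W) ε (𝟙 E) ψ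
      (IsPushout.of_vert_isIso ⟨by simp only [ε, ψ, Iso.hom_inv_id_assoc]; exact Category.comp_id _⟩) hTW
  let a : Γ(T₁.left, O) ⟶ Γ(pullback T₁.hom i, P₀) := fst.app O
  have ha : Function.Surjective a.hom := fst.app_surjective O hO
  obtain ⟨B, φ, b, hφ, hpo⟩ := lift_tower p n a ψ ha hψ
  have S2 : IsPullback (Spec.map a) hP₀.fromSpec hO.fromSpec fst := by
    refine IsOpenImmersion.isPullback _ _ _ _ ?_ ?_
    · simp only [a, Scheme.Hom.app_eq_appLE]
      exact (IsAffineOpen.SpecMap_appLE_fromSpec fst hO hP₀ le_rfl).symm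
    · rw [hO.opensRange_fromSpec, hP₀.opensRange_fromSpec]
  have S := ((isPullback_SpecMap_of_isPushout φ a b ψ hpo).paste_vert S2).paste_vert
    (IsPullback.of_hasPullback T₁.hom i)
  have e1 : Spec.map (r.app W) ≫ hW.fromSpec = hW'.fromSpec ≫ r := by
    simp only [Scheme.Hom.app_eq_appLE]
    exact IsAffineOpen.SpecMap_appLE_fromSpec r hW hW' le_rfl
  have e2 : Spec.map ε ≫ hW.fromSpec = hP₀.fromSpec ≫ h := by
    simp only [ε, h.appIso_hom' P₀]
    exact IsAffineOpen.SpecMap_appLE_fromSpec h hW hP₀ _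
  let jU : Spec E ⟶ U' := hW'.fromSpec ≫ Vu.ι
  have e3 : (Spec.map ψ ≫ hP₀.fromSpec) ≫ pullback.snd T₁.hom i = jU ≫ f' := by
    rw [← hh, Category.assoc, ← reassoc_of% e2, ← Category.assoc (Spec.map ψ), ← Spec.map_comp,
      show ε ≫ ψ = r.app W by simp [ε, ψ], reassoc_of% e1]
    simp [jU, hre]
  rw [e3] at S
  refine ⟨jU.opensRange, Spec B, (Spec.map φ ≫ hO.fromSpec) ≫ T₁.hom,
    jU.isoOpensRange.inv ≫ Spec.map b, ?_, ?_, ?_⟩
  · have h0 : (⟨u, huV⟩ : (Vu : Scheme.{u})) ∈ Set.range hW'.fromSpec := by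
      rw [hW'.range_fromSpec]
      exact ⟨p₀, hp₀O, hp₀⟩
    obtain ⟨t, ht⟩ := h0
    refine ⟨t, ?_⟩
    show (hW'.fromSpec ≫ Vu.ι) t = u
    rw [Scheme.Hom.comp_apply, ht]
    rfl
  · intro y
    haveI : IsIso (⊤ : (Spec B).Opens).ι := (Scheme.topIso (Spec B)).isIso_hom
    refine ⟨⊤, Spec Γ(T₁.left, O), (⊤ : (Spec B).Opens).ι ≫ Spec.map φ, hO.fromSpec ≫ T₁.hom, trivial,
      Quiet5.isPthRoot_of_isPullback (IsPullback.of_horiz_isIso (fst := (⊤ : (Spec B).Opens).ι)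
        (snd := (⊤ : (Spec B).Opens).ι ≫ Spec.map φ) (f := Spec.map φ) (g := 𝟙 _) ⟨by simp⟩)
        (isPthRoot_SpecMap p φ hφ), inferInstance, by simp only [Category.assoc]⟩
  · refine S.of_iso jU.isoOpensRange (Iso.refl _) (Iso.refl _) (Iso.refl _) ?_ ?_ (by simp) (by simp)
    · simp
    · simp

end Groth.Agent.MiscTwoH99.Quiet
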